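import Cfsg.Agent.Lib.PSUField.Main

/-!
# The two statements about field automorphisms of `PSU_n(q)`, given the decomposition of `Aut(PSU)`
-/

set_option autoImplicit false

namespace Cfsg.Agent.Lib.PSUField

open Matrix PSUAut FieldDescent
open scoped MatrixGroups

variable {F : Type*} [Field F] [Fintype F] {n q p f r : ℕ} [Fact p.Prime]

theorem arith (hq : q = p ^ f) (hF : Fintype.card F = q ^ 2) (σ : F ≃+* F) (hσ : orderOf σ = r)
    (hr : Odd r) : r ∣ f ∧ q = (p ^ (f / r)) ^ r := by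
  have hF' : Fintype.card F = p ^ (2 * f) := by rw [hF, hq, ← pow_mul, mul_comm]
  obtain ⟨hd, -, -⟩ := PSLAut.index_fixedUnits σ hF' hσ hr.pos
  have hrf : r ∣ f := (hr.coprime_two_right).dvd_of_dvd_mul_left hd
  exact ⟨hrf, by rw [hq, ← pow_mul, Nat.div_mul_cancel hrf]⟩

theorem main_cent_split (hq : q = p ^ f) (hF : Fintype.card F = q ^ 2) (hn : 3 ≤ n)
    (hdec : ∀ α : MulAut (Cfsg.PSU n F q), ∃ (g : GUType n F q) (τ : F ≃+* F), α = conj g * fieldAut τ)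
    (x : MulAut (Cfsg.PSU n F q)) (hx : Cfsg.IsFieldAutClassPSU x) (hro : Odd r) (hxr : orderOf x = r)
    (F₀ : Type*) [Field F₀] [Fintype F₀] (hF₀ : Fintype.card F₀ = p ^ (2 * (f / r))) :
    r ∣ f ∧
      Nonempty (↥(Cfsg.inndiagPSU n F q ⊓ Subgroup.centralizer {x}) ≃* Cfsg.PGU n F₀ (p ^ (f / r))) ∧
      Cfsg.splitClassCount (Cfsg.inndiagPSU n F q) (Cfsg.Inn (Cfsg.PSU n F q)) x
        = Nat.gcd n ((q + 1) / (p ^ (f / r) + 1)) := by
  obtain ⟨σ, k, -, rfl⟩ := exists_conj_form hdec hx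
  rw [orderOf_conj_form hF hn] at hxr
  obtain ⟨hrf, hq₀⟩ := arith hq hF σ hxr hro
  obtain ⟨e⟩ := nonempty_centEquiv hF hn hro hq₀ σ hxr F₀ (by rw [hF₀, ← pow_mul, mul_comm])
  refine ⟨hrf, ⟨(e.trans (centEquiv k _)).symm⟩, ?_⟩
  rw [inndiagPSU_eq_range,
    splitClassCount_of_conj (H := (conj : GUType n F q →* _).range) ⟨k, rfl⟩,
    index_split hF hn hro hq₀ σ hxr]

theorem orderOf_iff_isConjUnder (hq : q = p ^ f) (hF : Fintype.card F = q ^ 2) (hn : 3 ≤ n)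
    (hdec : ∀ α : MulAut (Cfsg.PSU n F q), ∃ (g : GUType n F q) (τ : F ≃+* F), α = conj g * fieldAut τ)
    (x δ : MulAut (Cfsg.PSU n F q)) (hx : Cfsg.IsFieldAutClassPSU x) (hxr : orderOf x = r)
    (hδ : δ ∈ Cfsg.inndiagPSU n F q) :
    orderOf (δ * x) = r ↔ Cfsg.IsConjUnder (Cfsg.inndiagPSU n F q) x (δ * x) := by
  constructor
  · intro h
    obtain ⟨σ, k, hodd, rfl⟩ := exists_conj_form hdec hx
    rw [orderOf_conj_form hF hn] at hxr
    have hro : Odd r := hxr ▸ hodd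
    obtain ⟨-, hq₀⟩ := arith hq hF σ hxr hro
    rw [inndiagPSU_eq_range] at hδ ⊢
    obtain ⟨d, rfl⟩ := hδ
    rw [isConjUnder_iff_of_conj (H := (conj : GUType n F q →* _).range) ⟨k, rfl⟩]
    set g : GUType n F q := k⁻¹ * d * k with hg
    have he : conj d * (conj k * fieldAut σ * (conj k)⁻¹)
        = conj k * (conj g * fieldAut σ) * (conj k)⁻¹ := by
      rw [hg, map_mul, map_mul, map_inv]; group
    have hord : orderOf (conj g * fieldAut σ : MulAut (Cfsg.PSU n F q)) = r := by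
      rw [← MulEquiv.orderOf_eq (MulAut.conj (conj k : MulAut (Cfsg.PSU n F q)))]
      show orderOf (conj k * (conj g * fieldAut σ) * (conj k)⁻¹) = r
      rw [← he, h]
    obtain ⟨t, ht⟩ := field_order_imp_conj hF hn hro hq₀ σ hxr g (by rw [← hord, pow_orderOf_eq_one])
    exact ⟨conj k * conj t, ⟨k * t, map_mul _ _ _⟩, by rw [he, ht]; group⟩
  · rintro ⟨h, -, he⟩
    rw [he, show h * x * h⁻¹ = MulAut.conj h x from rfl, MulEquiv.orderOf_eq, hxr]

end Cfsg.Agent.Lib.PSUField
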