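import Cfsg.Agent.Lib.FieldDescent.Unitary

/-!
# Gram matrices of the standard Hermitian form, and Hilbert 90 for `GU_n` modulo scalars
-/

set_option autoImplicit false

namespace Cfsg.Agent.Lib.PSUField

open Matrix FieldDescent
open scoped MatrixGroups

variable {F : Type*} [Field F] [Fintype F] {n q : ℕ} (hF : Fintype.card F = q ^ 2)

/-- The Gram matrix of the standard Hermitian form in the basis given by `t`. -/
noncomputable def gram (t : GL (Fin n) F) : Matrix (Fin n) (Fin n) F :=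
  (t : Matrix (Fin n) (Fin n) F)ᵀ * (t : Matrix (Fin n) (Fin n) F).map (barEquiv hF)

theorem mem_GU_iff_gram (g : GL (Fin n) F) : g ∈ Cfsg.GU n F q ↔ gram hF g = 1 := by
  rw [PSLAut.mem_GU_iff (barEquiv hF) (barEquiv_apply hF), gram,
    ← Matrix.transpose_inj (A := (g : Matrix (Fin n) (Fin n) F)ᵀ * _), Matrix.transpose_mul,
    Matrix.transpose_transpose, Matrix.transpose_one]

theorem gram_mul (a b : GL (Fin n) F) :
    gram hF (a * b) = (b : Matrix (Fin n) (Fin n) F)ᵀ * gram hF a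
      * (b : Matrix (Fin n) (Fin n) F).map (barEquiv hF) := by
  simp only [gram, Units.val_mul, Matrix.transpose_mul, Matrix.map_mul, Matrix.mul_assoc]

theorem gram_one : gram hF (1 : GL (Fin n) F) = 1 := (mem_GU_iff_gram hF 1).1 (one_mem _)

theorem gram_map (σ : F ≃+* F) (t : GL (Fin n) F) :
    gram hF (GeneralLinearGroup.map σ.toRingHom t) = (gram hF t).map σ := by
  rw [gram, gram, Matrix.map_mul, Matrix.transpose_map]
  congr 1
  ext i j
  show barEquiv hF (σ _) = σ (barEquiv hF _)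
  rw [barEquiv_apply, barEquiv_apply, map_pow]

variable {q₀ r : ℕ} (hr : Odd r) (hq : q = q₀ ^ r) (σ : F ≃+* F) (hσ : orderOf σ = r)
include hr hq hσ hF

/-- A scalar of norm one fixed by `σ` is a norm, under `σ`, of a scalar of norm one. -/
theorem exists_normOne_norm {c : Fˣ} (hc : c ^ (q + 1) = 1) (hfix : c ∈ fixedUnits σ) :
    ∃ μ : Fˣ, μ ^ (q + 1) = 1 ∧ normProd σ (orderOf σ) μ = c := by
  haveI : Fintype ↥(fixedField σ) := Fintype.ofFinite _
  have hK₀ : Fintype.card ↥(fixedField σ) = q₀ ^ 2 := by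
    rw [← Nat.card_eq_fintype_card, card_fixed_eq hr hq hF σ hσ]
  let c₀ : (↥(fixedField σ))ˣ := Units.mk0 ⟨(c : F), mem_fixedUnits.1 hfix⟩
    fun h => c.ne_zero (congrArg Subtype.val h)
  have hc₀ : (c₀ : ↥(fixedField σ)) ^ (q₀ + 1) = 1 := by
    rw [pow_succ, ← fixed_pow_q hr hq hF σ hσ, ← pow_succ]
    refine Subtype.ext ?_
    show (c : F) ^ (q + 1) = 1
    rw [← Units.val_pow_eq_pow_val, hc, Units.val_one]
  have hN : normProd (barEquiv hK₀) (orderOf (barEquiv hK₀)) c₀ = 1 := by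
    ext1
    rw [normProd_apply, orderOf_barEquiv hK₀, Units.val_one, ← hc₀]
    simp [Finset.prod_range_succ, barEquiv_apply, pow_succ']
  obtain ⟨ν, hν⟩ := exists_of_normProd_eq_one (barEquiv hK₀) hN
  let y : Fˣ := Units.map (fixedField σ).subtype.toMonoidHom ν
  have hy : y ∈ fixedUnits σ := mem_fixedUnits.2 (ν : ↥(fixedField σ)).2
  obtain ⟨μ, hμ⟩ := exists_normProd_eq σ hy
  refine ⟨μ / μ ^ q, ?_, ?_⟩
  · have h2 : μ ^ (q ^ 2) = μ := Units.ext (by
      rw [Units.val_pow_eq_pow_val, ← hF, FiniteField.pow_card])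
    rw [div_pow, ← pow_mul, show q * (q + 1) = q ^ 2 + q by ring, pow_add μ (q ^ 2) q, h2, ← pow_succ', div_self']
  · rw [map_div, map_pow, hμ]
    have h1 : (y : F) ^ q = ((barEquiv hK₀ (ν : ↥(fixedField σ)) : ↥(fixedField σ)) : F) := by
      rw [barEquiv_apply, ← fixed_pow_q hr hq hF σ hσ]
      rfl
    have h2 := congrArg (fun z : (↥(fixedField σ))ˣ => ((z : ↥(fixedField σ)) : F)) hν
    ext1
    rw [Units.val_div_eq_div_val, Units.val_pow_eq_pow_val, h1]
    simp only [Units.val_div_eq_div_val] at h2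
    exact h2.symm

/-- Hilbert 90 for `GU_n`. -/
theorem exists_gu_eq_mul_map_inv {g : GL (Fin n) F} (hg : g ∈ Cfsg.GU n F q)
    (hN : iterProd σ g (orderOf σ) = 1) :
    ∃ k : GL (Fin n) F, k ∈ Cfsg.GU n F q ∧ g = k * (GeneralLinearGroup.map σ.toRingHom k)⁻¹ := by
  obtain ⟨t, ht⟩ := exists_eq_mul_map_inv σ g hN
  haveI : Fintype ↥(fixedField σ) := Fintype.ofFinite _
  have hK₀ : Fintype.card ↥(fixedField σ) = q₀ ^ 2 := by
    rw [← Nat.card_eq_fintype_card, card_fixed_eq hr hq hF σ hσ]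
  have hgt : g * GeneralLinearGroup.map σ.toRingHom t = t := by rw [ht, inv_mul_cancel_right]
  have hfix : (gram hF t).map σ = gram hF t := by
    rw [← gram_map]
    conv_rhs => rw [← hgt, gram_mul, (mem_GU_iff_gram hF g).1 hg, Matrix.mul_one]
    rfl
  let M : Matrix (Fin n) (Fin n) ↥(fixedField σ) := fun i j =>
    ⟨gram hF t i j, congrFun (congrFun hfix i) j⟩
  have hMmap : M.map (fixedField σ).subtype = gram hF t := rfl
  have hMdet : M.det ≠ 0 := by
    intro h0
    have h1 : (fixedField σ).subtype M.det = (gram hF t).det := by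
      rw [RingHom.map_det]; exact congrArg Matrix.det hMmap
    rw [h0, map_zero, gram, Matrix.det_mul, Matrix.det_transpose] at h1
    have hd := GeneralLinearGroup.det_ne_zero t
    have h2 : ((t : Matrix (Fin n) (Fin n) F).map (barEquiv hF)).det ≠ 0 := by
      rw [show ((t : Matrix (Fin n) (Fin n) F).map (barEquiv hF))
        = (barEquiv hF).toRingHom.mapMatrix (t : Matrix (Fin n) (Fin n) F) from rfl, ← RingHom.map_det]
      exact fun h => hd ((barEquiv hF).injective (h.trans (map_zero (barEquiv hF)).symm))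
    exact mul_ne_zero hd h2 h1.symm
  have hbar : ∀ x : ↥(fixedField σ),
      ((barEquiv hK₀ x : ↥(fixedField σ)) : F) = barEquiv hF (x : F) := by
    intro x
    rw [barEquiv_apply, barEquiv_apply, ← fixed_pow_q hr hq hF σ hσ]
    rfl
  have hherm : ∀ A : Matrix (Fin n) (Fin n) F,
      ((Aᵀ * A.map (barEquiv hF)).map (barEquiv hF))ᵀ = Aᵀ * A.map (barEquiv hF) := by
    intro A
    rw [Matrix.map_mul, Matrix.transpose_mul, Matrix.transpose_map, Matrix.transpose_transpose]
    congr 1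
    ext i j
    show barEquiv hF (barEquiv hF (A j i)) = A j i
    rw [barEquiv_apply, barEquiv_apply, Forms.pow_q_pow_q hF]
  obtain ⟨h, hh⟩ := exists_mul_map_transpose (barEquiv hK₀) (orderOf_barEquiv hK₀)
    (GeneralLinearGroup.mkOfDetNeZero M hMdet) (by
      refine Matrix.map_injective (fixedField σ).subtype.injective ?_
      show ((M.map (barEquiv hK₀))ᵀ).map (fixedField σ).subtype = M.map (fixedField σ).subtype
      rw [Matrix.transpose_map, hMmap]
      refine Eq.trans ?_ (hherm (t : Matrix (Fin n) (Fin n) F))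
      congr 1
      ext i j
      exact hbar (M i j))
  let k₀ : GL (Fin n) ↥(fixedField σ) :=
    GeneralLinearGroup.mkOfDetNeZero (h : Matrix (Fin n) (Fin n) ↥(fixedField σ))ᵀ
      (by rw [Matrix.det_transpose]; exact GeneralLinearGroup.det_ne_zero h)
  set K₀ := GeneralLinearGroup.map (fixedField σ).subtype k₀ with hK₀def
  have hgram : gram hF K₀ = gram hF t := by
    rw [← hMmap]
    have h1 : M = (k₀ : Matrix (Fin n) (Fin n) ↥(fixedField σ))ᵀ
        * (k₀ : Matrix (Fin n) (Fin n) ↥(fixedField σ)).map (barEquiv hK₀) := by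
      refine hh.trans ?_
      show _ = (h : Matrix (Fin n) (Fin n) ↥(fixedField σ))ᵀᵀ
        * ((h : Matrix (Fin n) (Fin n) ↥(fixedField σ))ᵀ).map (barEquiv hK₀)
      rw [Matrix.transpose_transpose, Matrix.transpose_map]
    rw [h1, Matrix.map_mul, gram, Matrix.transpose_map]
    congr 1
    ext i j
    exact (hbar _).symm
  have hKσ : GeneralLinearGroup.map σ.toRingHom K₀ = K₀ := by
    ext i j
    exact ((k₀ : Matrix (Fin n) (Fin n) ↥(fixedField σ)) i j).2
  refine ⟨t * K₀⁻¹, ?_, ?_⟩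
  · rw [mem_GU_iff_gram hF, gram_mul, ← hgram, ← gram_mul, mul_inv_cancel, gram_one]
  · rw [map_mul, map_inv, hKσ, _root_.mul_inv_rev, inv_inv, ← mul_assoc, inv_mul_cancel_right, ← ht]

/-- Hilbert 90 for `GU_n` modulo scalars. -/
theorem exists_gu_descent (hn : 1 ≤ n) {g : GL (Fin n) F} (hg : g ∈ Cfsg.GU n F q) {c : Fˣ}
    (hN : iterProd σ g (orderOf σ) = GeneralLinearGroup.scalar (Fin n) c)
    (hc : c ^ (q + 1) = 1) :
    ∃ (μ : Fˣ) (k : GL (Fin n) F), μ ^ (q + 1) = 1 ∧ k ∈ Cfsg.GU n F q ∧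
      GeneralLinearGroup.scalar (Fin n) μ * g = k * (GeneralLinearGroup.map σ.toRingHom k)⁻¹ := by
  have hfix : c ∈ fixedUnits σ := by
    have h2 := map_iterProd σ g (pow_orderOf_eq_one σ)
    rw [hN, GeneralLinearGroup.scalar_commute] at h2
    have h3 := mul_left_cancel h2
    rw [GeneralLinearGroup.map_scalar] at h3
    have h4 := congrArg (fun u : GL (Fin n) F =>
      (u : Matrix (Fin n) (Fin n) F) ⟨0, hn⟩ ⟨0, hn⟩) h3
    rw [mem_fixedUnits]
    simpa [GeneralLinearGroup.coe_scalar] using h4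
  obtain ⟨μ, hμ1, hμ⟩ := exists_normOne_norm hF hr hq σ hσ (c := c⁻¹)
    (by rw [inv_pow, hc, inv_one]) (inv_mem hfix)
  obtain ⟨k, hk, he⟩ := exists_gu_eq_mul_map_inv hF hr hq σ hσ
    (g := GeneralLinearGroup.scalar (Fin n) μ * g) (mul_mem (scalar_mem_GU hF μ hμ1) hg)
    (by rw [iterProd_smul, hN, hμ, ← map_mul, inv_mul_cancel, map_one])
  exact ⟨μ, k, hμ1, hk, he⟩

end Cfsg.Agent.Lib.PSUField
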