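import Cfsg.Agent.Lib.PSUAut.Transvection
import Cfsg.Agent.Lib.PSUField.Gram

/-!
# Kernels of `GU → Aut(PSU)` and `Aut F → Aut(PSU)`; conjugates of standard field automorphisms
-/

set_option autoImplicit false

namespace Cfsg.Agent.Lib.PSUField

open Matrix PSUAut FieldDescent
open scoped MatrixGroups

variable {F : Type*} [Field F] [Fintype F] {n q : ℕ} (hF : Fintype.card F = q ^ 2) (hn : 3 ≤ n)

local notation "V" => (Fin n → F)
local notation "GUT" => (GUType n F q)
local notation "B" => Cfsg.hermForm n F q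

/-- `conj g` sends a transvection to the transvection at the image. -/
theorem conj_apply_tp {v : V} {c : F} (hF : Fintype.card F = q ^ 2) (g : GUT) (hv : B v v = 0)
    (hc : c + c ^ q = 0) :
    (conj g : MulAut (Cfsg.PSU n F q)) (tp v c) = tp (gv g.1 v) c := by
  rw [tp, conj_proj, suConj_eich hF g hv (tv_orth hF v) (tv_fill hF hc),
    show gv g.1 (0 : V) = 0 from Matrix.mulVec_zero _]
  rfl

theorem fieldAut_apply_tp {v : V} {c : F} (hF : Fintype.card F = q ^ 2) (τ : F ≃+* F) (hv : B v v = 0)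
    (hc : c + c ^ q = 0) :
    (fieldAut τ : MulAut (Cfsg.PSU n F q)) (tp v c) = tp (sv τ v) (τ c) := by
  have h1 : ∀ w : V, semi (1 : GUT) τ w = sv τ w := fun w => Matrix.one_mulVec _
  have h2 : suConjFun (1 : GUT) (suFieldFun τ (eich v 0 c)) = suFieldFun τ (eich v 0 c) :=
    act_ext fun w => by
      rw [act_suConjFun]; simp [gv]
  rw [tp, fieldAut_proj, ← h2, ind_eich hF (1 : GUT) τ hv (tv_orth hF v) (tv_fill hF hc), h1, h1,
    show sv τ (0 : V) = 0 from funext fun i => map_zero τ]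
  rfl

include hF hn

theorem conj_eq_one_iff (g : GUT) :
    (conj g : MulAut (Cfsg.PSU n F q)) = 1 ↔ ∃ c : Fˣ, g.1 = GeneralLinearGroup.scalar (Fin n) c := by
  obtain ⟨p, hp⟩ := CharP.exists F
  haveI := hp
  haveI : Fact p.Prime := ⟨CharP.char_is_prime F p⟩
  constructor
  · intro h
    obtain ⟨d, hd0, hd⟩ := exists_skew' hF
    obtain ⟨r, hr0, hr⟩ := exists_isotropic_vec hF hn
    obtain ⟨r', hrr⟩ := exists_hyp hF hr0 hr
    obtain ⟨ν, hν⟩ := scalar_of_lines (herm hF) (S := (⊤ : Submodule F V)) Submodule.mem_top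
      Submodule.mem_top hrr ((g.1 : Matrix (Fin n) (Fin n) F).mulVecLin.toAddMonoidHom)
      (fun y _ hy0 hy => by
        have he := conj_apply_tp hF g hy hd
        rw [h, MulAut.one_apply] at he
        obtain ⟨a, ha⟩ := mem_line_of_tp_eq (p := p) hF hn
          (v := gv g.1 y) (fun h0 => hy0 (by
            rw [← gv_inv_cancel' g.1 y, h0]; exact Matrix.mulVec_zero _))
          (by rw [gu_form, hy]) hd0 hd hy hd he.symm
        refine ⟨a, fun x => ?_⟩
        show (g.1 : Matrix (Fin n) (Fin n) F) *ᵥ (x • y) = _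
        rw [Matrix.mulVec_smul, show (g.1 : Matrix (Fin n) (Fin n) F) *ᵥ y = a • y from ha, smul_smul,
          mul_comm])
    have hmat : (g.1 : Matrix (Fin n) (Fin n) F) = Matrix.scalar (Fin n) ν := by
      refine Matrix.ext fun i j => ?_
      have h1 := congrFun (hν (Pi.single j 1) Submodule.mem_top) i
      change ((g.1 : Matrix (Fin n) (Fin n) F) *ᵥ Pi.single j 1) i = _ at h1
      rw [Matrix.mulVec_single_one, Matrix.col_apply] at h1
      rw [h1]
      rcases eq_or_ne i j with rfl | hij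
      · simp
      · simp [hij]
    have hν0 : ν ≠ 0 := by
      intro h0
      apply GeneralLinearGroup.det_ne_zero g.1
      haveI : Nonempty (Fin n) := ⟨⟨0, by omega⟩⟩
      rw [hmat, h0, map_zero, Matrix.det_zero]
    exact ⟨Units.mk0 ν hν0, Units.ext hmat⟩
  · rintro ⟨c, hc⟩
    refine aut_ext fun s => ?_
    rw [conj_proj, MulAut.one_apply]
    refine congrArg proj (act_ext fun v => ?_)
    rw [act_suConjFun, hc, gv, gv, ← map_inv, GeneralLinearGroup.coe_scalar, GeneralLinearGroup.coe_scalar,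
      Matrix.scalar_apply, Matrix.scalar_apply,
      ← Matrix.smul_one_eq_diagonal c.val, ← Matrix.smul_one_eq_diagonal (c⁻¹).val, Matrix.smul_mulVec,
      Matrix.smul_mulVec, Matrix.one_mulVec, Matrix.one_mulVec, act, act, map_smul, smul_smul,
      ← Units.val_mul, mul_inv_cancel, Units.val_one, one_smul]

theorem conj_eq_conj_iff (a b : GUT) :
    (conj a : MulAut (Cfsg.PSU n F q)) = conj b ↔
      ∃ c : Fˣ, a.1 = GeneralLinearGroup.scalar (Fin n) c * b.1 := by
  rw [← mul_inv_eq_one, ← map_inv, ← map_mul, conj_eq_one_iff hF hn]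
  constructor
  · rintro ⟨c, hc⟩
    exact ⟨c, by rw [← hc]; simp⟩
  · rintro ⟨c, hc⟩
    exact ⟨c, by simp [hc]⟩

theorem fieldAut_injective : Function.Injective (fieldAut : (F ≃+* F) →* MulAut (Cfsg.PSU n F q)) := by
  rw [injective_iff_map_eq_one]
  intro τ hτ
  obtain ⟨p, hp⟩ := CharP.exists F
  haveI := hp
  haveI : Fact p.Prime := ⟨CharP.char_is_prime F p⟩
  obtain ⟨d, hd0, hd⟩ := exists_skew' hF
  have hq0 := q_ne_zero hF
  have hfix : ∀ a : F, a ^ (q + 1) = -1 → τ a = a := by
    intro a ha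
    let v : V := Pi.single ⟨0, by omega⟩ 1 + Pi.single ⟨1, by omega⟩ a
    have hv0 : v ≠ 0 := fun h => one_ne_zero (α := F) (by simpa [v, Fin.ext_iff, Pi.single_apply] using congrFun h ⟨0, by omega⟩)
    have hv : B v v = 0 := by
      have hterm : ∀ i, v i * v i ^ q = Pi.single (M := fun _ => F) ⟨0, by omega⟩ 1 i
          + Pi.single (M := fun _ => F) ⟨1, by omega⟩ (-1) i := by
        intro i
        rcases eq_or_ne i ⟨0, by omega⟩ with rfl | h0
        · simp [v]
        rcases eq_or_ne i ⟨1, by omega⟩ with rfl | h1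
        · simp [v, ← ha, pow_succ']
        · simp [v, h0, h1, zero_pow hq0]
      show ∑ i, v i * v i ^ q = 0
      rw [Finset.sum_congr rfl fun i _ => hterm i, Finset.sum_add_distrib, Finset.sum_pi_single',
        Finset.sum_pi_single']
      simp
    have he := fieldAut_apply_tp hF τ hv hd
    rw [hτ, MulAut.one_apply] at he
    have hdq : τ d + τ d ^ q = 0 := by rw [← map_pow, ← map_add, hd, map_zero]
    obtain ⟨b, hb⟩ := mem_line_of_tp_eq (p := p) hF hn hv0 hv hd0 hd
      (by rw [herm_sv, hv, map_zero]) hdq he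
    have e0 : b = 1 := by
      have := congrFun hb ⟨0, by omega⟩
      simpa [v, sv, eq_comm] using this
    have e1 := congrFun hb ⟨1, by omega⟩
    simpa [v, sv, e0, eq_comm] using e1
  obtain ⟨a₀, ha₀⟩ := exists_norm hF (-1) (by
    rw [Forms.qPowHom_apply hF]
    rw [map_neg_one_pow hF])
  rw [Forms.qPowHom_apply, ← pow_succ'] at ha₀
  have ha0 : a₀ ≠ 0 := by
    rintro rfl
    rw [zero_pow (Nat.succ_ne_zero q)] at ha₀
    exact one_ne_zero (α := F) (neg_eq_zero.1 ha₀.symm)
  have hnorm1 : ∀ x : F, x ^ (q + 1) = 1 → τ x = x := by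
    intro x hx
    have h1 := hfix (a₀ * x) (by rw [mul_pow, ha₀, hx, mul_one])
    rw [map_mul, hfix a₀ ha₀] at h1
    exact mul_left_cancel₀ ha0 h1
  have hcard : q + 1 ≤ Nat.card ↥(fixedField τ) := by
    rw [← Classical.natCard_normOne hF]
    exact Nat.card_le_card_of_injective (fun x => (⟨x.1, hnorm1 x.1 x.2⟩ : ↥(fixedField τ)))
      fun x y h => Subtype.ext (congrArg (fun z : ↥(fixedField τ) => (z : F)) h)
  have h := card_eq_pow τ
  rw [Nat.card_eq_fintype_card, hF] at h
  haveI : Finite (F ≃+* F) := finite_ringAut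
  have hpos := orderOf_pos τ
  rcases eq_or_ne (orderOf τ) 1 with h1 | h1
  · exact orderOf_eq_one_iff.1 h1
  · have : (q + 1) ^ 2 ≤ q ^ 2 := by
      rw [h]
      exact le_trans (Nat.pow_le_pow_left hcard 2) (Nat.pow_le_pow_right (by omega) (by omega))
    exact absurd (Nat.pow_le_pow_iff_left two_ne_zero |>.1 this) (by omega)
where
  map_neg_one_pow (hF : Fintype.card F = q ^ 2) : ((-1 : F)) ^ q = -1 := by
    obtain ⟨p, hp⟩ := CharP.exists F
    haveI := hp
    haveI : Fact p.Prime := ⟨CharP.char_is_prime F p⟩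
    obtain ⟨k, hk⟩ : ∃ k, q = p ^ k := by
      obtain ⟨e, -, he⟩ := FiniteField.card F p
      have hd : q ∣ p ^ (e : ℕ) := by rw [← he, hF]; exact dvd_pow_self q two_ne_zero
      obtain ⟨k, -, hk⟩ := (Nat.dvd_prime_pow Fact.out).1 hd
      exact ⟨k, hk⟩
    rw [hk]
    exact neg_one_pow_char_pow F p k

end Cfsg.Agent.Lib.PSUField
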