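import Cfsg.Agent.Lib.PSUField.Basic
import Cfsg.Agent.Lib.SplitClass.Basic

/-!
# Field automorphisms of `PSU_n(q)` of odd prime order: coset conjugacy, centraliser, splitting

The decomposition of `Aut(PSU)` enters as the hypothesis `hdec`.
-/

set_option autoImplicit false

namespace Cfsg.Agent.Lib.PSUField

open Matrix PSUAut FieldDescent
open scoped MatrixGroups

variable {F : Type*} [Field F] [Fintype F] {n q : ℕ}

local notation "GUT" => (GUType n F q)
local notation "AutT" => (MulAut (Cfsg.PSU n F q))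

theorem ringAut_comm (τ σ : F ≃+* F) : τ * σ = σ * τ := by
  obtain ⟨p, hp⟩ := CharP.exists F
  haveI := hp
  haveI : Fact p.Prime := ⟨CharP.char_is_prime F p⟩
  letI : Algebra (ZMod p) F := ZMod.algebra F p
  have hlin : ∀ ρ : F ≃+* F, ∃ ρ' : F ≃ₐ[ZMod p] F, ∀ y, ρ' y = ρ y := fun ρ =>
    ⟨AlgEquiv.ofRingEquiv (f := ρ) fun y => congrFun (congrArg DFunLike.coe
      (RingHom.ext_zmod (ρ.toRingHom.comp (algebraMap (ZMod p) F)) (algebraMap (ZMod p) F))) y,
      fun y => rfl⟩
  obtain ⟨τ', hτ'⟩ := hlin τ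
  obtain ⟨σ', hσ'⟩ := hlin σ
  obtain ⟨g, hg⟩ := IsCyclic.exists_generator (α := F ≃ₐ[ZMod p] F)
  obtain ⟨i, hi⟩ := Subgroup.mem_zpowers_iff.1 (hg τ')
  obtain ⟨j, hj⟩ := Subgroup.mem_zpowers_iff.1 (hg σ')
  have hc : τ' * σ' = σ' * τ' := by rw [← hi, ← hj]; exact ((Commute.refl g).zpow_zpow i j).eq
  refine RingEquiv.ext fun y => ?_
  show τ (σ y) = σ (τ y)
  rw [← hτ', ← hσ', ← hσ', ← hτ']
  exact DFunLike.congr_fun hc y

/-- A field automorphism is conjugate under `Inndiag` to a standard one. -/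
theorem exists_conj_form (hdec : ∀ α : AutT, ∃ (g : GUT) (τ : F ≃+* F), α = conj g * fieldAut τ)
    {x : AutT} (hx : Cfsg.IsFieldAutClassPSU x) :
    ∃ (σ : F ≃+* F) (k : GUT), Odd (orderOf σ) ∧ x = conj k * fieldAut σ * (conj k)⁻¹ := by
  obtain ⟨α, φ, σ, -, hodd, hφ, hx⟩ := hx
  rw [isFieldAutOf_iff] at hφ
  obtain ⟨g, τ, hα⟩ := hdec α⁻¹
  refine ⟨σ, g, hodd, ?_⟩
  have hτσ : (fieldAut τ : AutT) * fieldAut σ = fieldAut σ * fieldAut τ := by
    rw [← map_mul, ← map_mul, ringAut_comm]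
  calc x = α⁻¹ * φ * (α⁻¹)⁻¹ := by rw [← hx]; group
    _ = conj g * (fieldAut τ * fieldAut σ * (fieldAut τ)⁻¹) * (conj g)⁻¹ := by rw [hφ, hα]; group
    _ = conj g * fieldAut σ * (conj g)⁻¹ := by rw [hτσ]; group

theorem orderOf_conj_form (hF : Fintype.card F = q ^ 2) (hn : 3 ≤ n) (σ : F ≃+* F) (k : GUT) :
    orderOf (conj k * fieldAut σ * (conj k)⁻¹ : AutT) = orderOf σ := by
  rw [show (conj k * fieldAut σ * (conj k)⁻¹ : AutT) = MulAut.conj (conj k) (fieldAut σ) from rfl,
    MulEquiv.orderOf_eq, orderOf_injective _ (fieldAut_injective hF hn)]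

theorem coe_guField (σ : F ≃+* F) (g : GUT) :
    (guField σ g).1 = GeneralLinearGroup.map σ.toRingHom g.1 := rfl

theorem coe_iterProd_mem (σ : F ≃+* F) (g : GUT) : ∀ k, iterProd σ g.1 k ∈ Cfsg.GU n F q
  | 0 => one_mem _
  | k + 1 => mul_mem g.2 (guField σ ⟨_, coe_iterProd_mem σ g k⟩).2

theorem conj_mul_fieldAut_pow (g : GUT) (σ : F ≃+* F) : ∀ k : ℕ,
    (conj g * fieldAut σ : AutT) ^ k = conj ⟨_, coe_iterProd_mem σ g k⟩ * fieldAut (σ ^ k)
  | 0 => by
    rw [pow_zero, pow_zero, map_one, mul_one]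
    exact (map_one (conj : GUT →* _)).symm
  | k + 1 => by
    rw [pow_succ', conj_mul_fieldAut_pow g σ k, mul_assoc, ← mul_assoc (fieldAut σ),
      fieldAut_mul_conj, pow_succ' σ k, map_mul fieldAut, mul_assoc (conj (guField σ _)),
      ← mul_assoc (conj g), ← map_mul]
    rfl

section

variable (hF : Fintype.card F = q ^ 2) (hn : 3 ≤ n) {q₀ r : ℕ} (hr : Odd r) (hq : q = q₀ ^ r)
  (σ : F ≃+* F) (hσ : orderOf σ = r)
include hF hn hr hq hσ

theorem field_order_imp_conj (g : GUT) (h : (conj g * fieldAut σ : AutT) ^ r = 1) :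
    ∃ k : GUT, (conj g * fieldAut σ : AutT) = conj k * fieldAut σ * (conj k)⁻¹ := by
  have hn1 : 1 ≤ n := by omega
  rw [← hσ, conj_mul_fieldAut_pow, pow_orderOf_eq_one, map_one, mul_one, conj_eq_one_iff hF hn] at h
  obtain ⟨c, hc⟩ := h
  have hc1 : c ^ (q + 1) = 1 :=
    pow_eq_one_of_scalar_mem hF hn1 c (hc ▸ coe_iterProd_mem σ g (orderOf σ))
  obtain ⟨μ, k, hμ, hk, he⟩ := exists_gu_descent hF hr hq σ hσ hn1 g.2 hc hc1
  let K : GUT := ⟨k, hk⟩
  refine ⟨K, ?_⟩
  have hg' : (conj g : AutT) = conj (K * (guField σ K)⁻¹) := by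
    rw [conj_eq_conj_iff hF hn]
    refine ⟨μ⁻¹, ?_⟩
    rw [Subgroup.coe_mul, Subgroup.coe_inv, coe_guField, ← he, map_inv, inv_mul_cancel_left]
  rw [hg', map_mul, map_inv, mul_assoc (conj K), mul_assoc (conj K)]
  congr 1
  rw [inv_mul_eq_iff_eq_mul, ← mul_assoc, ← fieldAut_mul_conj, mul_inv_cancel_right]

omit hr hq hσ in
theorem commute_field_iff (g : GUT) :
    conj g ∈ Subgroup.centralizer {(fieldAut σ : AutT)} ↔
      ∃ c : Fˣ, GeneralLinearGroup.map σ.toRingHom g.1 = GeneralLinearGroup.scalar (Fin n) c * g.1 := by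
  rw [Subgroup.mem_centralizer_singleton_iff, fieldAut_mul_conj, mul_left_inj, eq_comm,
    conj_eq_conj_iff hF hn]
  rfl

/-- `PGU_n(q₀)` is the centraliser of the standard field automorphism. -/
theorem nonempty_centEquiv (F₀ : Type*) [Field F₀] [Fintype F₀] (hF₀ : Fintype.card F₀ = q₀ ^ 2) :
    Nonempty (Cfsg.PGU n F₀ q₀ ≃*
      ↥(Cfsg.inndiagPSU n F q ⊓ Subgroup.centralizer {(fieldAut σ : AutT)})) := by
  haveI : Fintype ↥(fixedField σ) := Fintype.ofFinite _
  have hn1 : 1 ≤ n := by omega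
  let e : F₀ ≃+* ↥(fixedField σ) := FiniteField.ringEquivOfCardEq
    (by rw [hF₀, ← Nat.card_eq_fintype_card (α := ↥(fixedField σ)), card_fixed_eq hr hq hF σ hσ])
  let E : GL (Fin n) F₀ →* GL (Fin n) F :=
    (GeneralLinearGroup.map (fixedField σ).subtype).comp (GeneralLinearGroup.map e.toRingHom)
  have hbar : ∀ x : F₀, e (x ^ q₀) = e x ^ q₀ := fun x => map_pow e x q₀
  have hmapGU : ∀ g : GL (Fin n) F₀, GeneralLinearGroup.map e.toRingHom g ∈
      Cfsg.GU n ↥(fixedField σ) q₀ ↔ g ∈ Cfsg.GU n F₀ q₀ := by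
    intro g
    have hfix : Fintype.card ↥(fixedField σ) = q₀ ^ 2 := by
      rw [← Nat.card_eq_fintype_card, card_fixed_eq hr hq hF σ hσ]
    rw [PSLAut.mem_GU_iff (barEquiv hfix) (barEquiv_apply hfix),
      PSLAut.mem_GU_iff (barEquiv hF₀) (barEquiv_apply hF₀),
      ← (Matrix.map_injective (m := Fin n) (n := Fin n) e.injective).eq_iff
        (a := _ * (g : Matrix (Fin n) (Fin n) F₀)), Matrix.map_mul,
      Matrix.map_one _ (map_zero e) (map_one e)]
    have h1 : (((g : Matrix (Fin n) (Fin n) F₀).map (barEquiv hF₀))ᵀ).map e =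
        (((g : Matrix (Fin n) (Fin n) F₀).map e).map (barEquiv hfix))ᵀ := by
      refine Matrix.ext fun i j => ?_
      show e (barEquiv hF₀ _) = barEquiv hfix (e _)
      rw [barEquiv_apply, barEquiv_apply, hbar]
    rw [h1]
    rfl
  have hEmem : ∀ g : ↥(Cfsg.GU n F₀ q₀), E g.1 ∈ Cfsg.GU n F q := fun g =>
    (mem_GU_map_iff hr hq hF σ hσ _).2 ((hmapGU g.1).2 g.2)
  let f₀ : ↥(Cfsg.GU n F₀ q₀) →* GUT := (E.comp (Subgroup.subtype _)).codRestrict _ hEmem
  let f : ↥(Cfsg.GU n F₀ q₀) →* ↥(Cfsg.inndiagPSU n F q ⊓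
      Subgroup.centralizer {(fieldAut σ : AutT)}) :=
    (conj.comp f₀).codRestrict _ (fun g => ⟨by
      rw [inndiagPSU_eq_range]; exact ⟨_, rfl⟩, (commute_field_iff hF hn σ _).mpr ⟨1, by
        rw [map_one, one_mul]
        ext i j
        exact (e (((g.1 : GL (Fin n) F₀) : Matrix (Fin n) (Fin n) F₀) i j)).2⟩⟩)
  have hι : Function.Injective ((fixedField σ).subtype.comp e.toRingHom) :=
    RingHom.injective _
  have hker : f.ker = (Cfsg.Geo.scalars (Fin n) F₀).subgroupOf (Cfsg.GU n F₀ q₀) := by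
    ext g
    rw [MonoidHom.mem_ker, Subgroup.mem_subgroupOf, Cfsg.Geo.mem_scalars_iff]
    constructor
    · intro h
      obtain ⟨c, hc⟩ := (conj_eq_one_iff hF hn _).1 (congrArg Subtype.val h : conj (f₀ g) = 1)
      have hval : ∀ i j, ((fixedField σ).subtype.comp e.toRingHom)
          ((g.1 : Matrix (Fin n) (Fin n) F₀) i j) = Matrix.scalar (Fin n) (c : F) i j := fun i j =>
        congrArg (fun u : GL (Fin n) F => (u : Matrix (Fin n) (Fin n) F) i j) hc
      let i₀ : Fin n := ⟨0, by omega⟩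
      have hne : (g.1 : Matrix (Fin n) (Fin n) F₀) i₀ i₀ ≠ 0 := by
        intro h0
        have := hval i₀ i₀
        rw [h0, map_zero] at this
        exact c.ne_zero (by simpa using this.symm)
      refine ⟨Units.mk0 _ hne, ?_⟩
      ext i j
      apply hι
      have h1 := hval i j
      have h0 := hval i₀ i₀
      rw [h1]
      rcases eq_or_ne i j with rfl | hij
      · simp at h0 ⊢; exact h0.symm
      · simp [hij]
    · rintro ⟨c, hc⟩
      refine Subtype.ext ?_
      show conj (f₀ g) = 1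
      refine (conj_eq_one_iff hF hn _).2
        ⟨Units.map ((fixedField σ).subtype.comp e.toRingHom).toMonoidHom c, ?_⟩
      refine Units.ext (Matrix.ext fun i j => ?_)
      show ((fixedField σ).subtype.comp e.toRingHom) ((g.1 : Matrix (Fin n) (Fin n) F₀) i j) = _
      rw [hc]
      rcases eq_or_ne i j with rfl | hij
      · simp [GeneralLinearGroup.coe_scalar]
      · simp [GeneralLinearGroup.coe_scalar, hij]
  have hsurj : Function.Surjective f := by
    rintro ⟨y, hy1, hy2⟩
    rw [inndiagPSU_eq_range] at hy1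
    obtain ⟨g, rfl⟩ := hy1
    obtain ⟨c, hc⟩ := (commute_field_iff hF hn σ g).mp hy2
    obtain ⟨x, h, hx, hgx⟩ := exists_scalar_descent hr hq hF σ hσ hn1 g.2 c hc
    have hmem : GeneralLinearGroup.map (fixedField σ).subtype h ∈ Cfsg.GU n F q := by
      have := mul_mem (inv_mem (scalar_mem_GU (n := n) hF x hx)) g.2
      rwa [hgx, inv_mul_cancel_left] at this
    have hback : GeneralLinearGroup.map e.toRingHom (GeneralLinearGroup.map e.symm.toRingHom h) = h := by
      ext i j; exact congrArg Subtype.val (e.apply_symm_apply _)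
    have hmem' : GeneralLinearGroup.map e.symm.toRingHom h ∈ Cfsg.GU n F₀ q₀ := by
      rw [← hmapGU, hback]
      exact (mem_GU_map_iff hr hq hF σ hσ h).1 hmem
    refine ⟨⟨_, hmem'⟩, Subtype.ext ?_⟩
    show conj (f₀ ⟨_, hmem'⟩) = conj g
    rw [conj_eq_conj_iff hF hn]
    refine ⟨x⁻¹, ?_⟩
    show GeneralLinearGroup.map (fixedField σ).subtype
      (GeneralLinearGroup.map e.toRingHom (GeneralLinearGroup.map e.symm.toRingHom h)) = _
    rw [hback, hgx, map_inv, inv_mul_cancel_left]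
  exact ⟨(QuotientGroup.quotientMulEquivOfEq hker.symm).trans
    (QuotientGroup.quotientKerEquivOfSurjective f hsurj)⟩

end

/-- Conjugation inside `Inndiag` carries one centraliser to the other. -/
noncomputable def centEquiv (k : GUT) (x : AutT) :
    ↥(Cfsg.inndiagPSU n F q ⊓ Subgroup.centralizer {x}) ≃*
      ↥(Cfsg.inndiagPSU n F q ⊓ Subgroup.centralizer {conj k * x * (conj k)⁻¹}) :=
  ((Cfsg.inndiagPSU n F q ⊓ Subgroup.centralizer {x}).equivMapOfInjective
      (MulAut.conj (conj k : AutT)).toMonoidHom (MulAut.conj (conj k : AutT)).injective).trans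
    (MulEquiv.subgroupCongr (by
      have hk : (conj k : AutT) ∈ Cfsg.inndiagPSU n F q := inndiagPSU_eq_range.ge ⟨k, rfl⟩
      ext y
      rw [Subgroup.mem_map_equiv, MulAut.conj_symm_apply, Subgroup.mem_inf, Subgroup.mem_inf,
        Subgroup.mem_centralizer_singleton_iff, Subgroup.mem_centralizer_singleton_iff]
      constructor
      · rintro ⟨h1, h2⟩
        refine ⟨by simpa [mul_assoc] using mul_mem (mul_mem hk h1) (inv_mem hk), ?_⟩
        calc y * (conj k * x * (conj k)⁻¹)
            = conj k * ((conj k)⁻¹ * y * conj k * x) * (conj k)⁻¹ := by group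
          _ = _ := by rw [h2]; group
      · rintro ⟨h1, h2⟩
        refine ⟨mul_mem (mul_mem (inv_mem hk) h1) hk, ?_⟩
        calc (conj k)⁻¹ * y * conj k * x
            = (conj k)⁻¹ * (y * (conj k * x * (conj k)⁻¹)) * conj k := by group
          _ = _ := by rw [h2]; group))

theorem isConjUnder_iff_of_conj {X : Type*} [Group X] {H : Subgroup X} {k : X} (hk : k ∈ H) (x y : X) :
    Cfsg.IsConjUnder H (k * x * k⁻¹) y ↔ Cfsg.IsConjUnder H x y := by
  constructor
  · rintro ⟨h, hh, rfl⟩; exact ⟨h * k, mul_mem hh hk, by group⟩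
  · rintro ⟨h, hh, rfl⟩; exact ⟨h * k⁻¹, mul_mem hh (inv_mem hk), by group⟩

theorem splitClassCount_of_conj {X : Type*} [Group X] {H K : Subgroup X} {k : X} (hk : k ∈ H) (x : X) :
    Cfsg.splitClassCount H K (k * x * k⁻¹) = Cfsg.splitClassCount H K x := by
  unfold Cfsg.splitClassCount
  exact Nat.card_congr (Quot.congr
    (Equiv.subtypeEquivRight fun y => isConjUnder_iff_of_conj hk x y) fun a b => Iff.rfl)

/-- The units of norm one. -/
def normOne (F : Type*) [Field F] (q : ℕ) : Subgroup Fˣ := (powMonoidHom (q + 1)).ker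

theorem mem_normOne {x : Fˣ} : x ∈ normOne F q ↔ x ^ (q + 1) = 1 := Iff.rfl

/-- The determinant on `GU`. -/
noncomputable def detU (hF : Fintype.card F = q ^ 2) : GUT →* ↥(normOne F q) :=
  (Classical.guDet n F q).codRestrict _ fun g => Units.ext (Classical.det_norm_one hF g)

theorem detU_val (hF : Fintype.card F = q ^ 2) (g : GUT) :
    ((detU hF g : ↥(normOne F q)) : Fˣ) = GeneralLinearGroup.det g.1 := rfl

theorem comap_inn (hF : Fintype.card F = q ^ 2) (hn : 3 ≤ n) :
    (Cfsg.Inn (Cfsg.PSU n F q)).comap (conj : GUT →* AutT)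
      = (powMonoidHom n : ↥(normOne F q) →* _).range.comap (detU hF) := by
  have hdet1 : ∀ s : SUType n F q, GeneralLinearGroup.det (suToGU s).1 = 1 := fun s => Units.ext s.1.2
  ext g
  constructor
  · rintro ⟨x, hx⟩
    obtain ⟨s, rfl⟩ := proj_surjective x
    rw [← conj_suToGU, eq_comm, conj_eq_conj_iff hF hn] at hx
    obtain ⟨c, hc⟩ := hx
    have hc1 : c ^ (q + 1) = 1 := pow_eq_one_of_scalar_mem hF (by omega : 1 ≤ n) c (by
      have := mul_mem g.2 (inv_mem (suToGU s).2)
      rwa [hc, mul_inv_cancel_right] at this)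
    refine ⟨⟨c, hc1⟩, Subtype.ext ?_⟩
    rw [detU_val, hc, map_mul, hdet1, mul_one, GeneralLinearGroup.det_scalar, Fintype.card_fin]
    rfl
  · rintro ⟨⟨c, hc⟩, he⟩
    have hmem : (GeneralLinearGroup.scalar (Fin n) c)⁻¹ * g.1 ∈ Cfsg.GU n F q :=
      mul_mem (inv_mem (scalar_mem_GU hF c hc)) g.2
    have hd : GeneralLinearGroup.det ((GeneralLinearGroup.scalar (Fin n) c)⁻¹ * g.1) = 1 := by
      have := congrArg Subtype.val he
      rw [detU_val] at this
      rw [map_mul, map_inv, GeneralLinearGroup.det_scalar, Fintype.card_fin, ← this]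
      exact inv_mul_cancel (c ^ n)
    let s : SUType n F q := ⟨⟨_, congrArg Units.val hd⟩, hmem⟩
    refine ⟨proj s, ?_⟩
    show MulAut.conj (proj s) = conj g
    rw [← conj_suToGU, conj_eq_conj_iff hF hn]
    refine ⟨c⁻¹, ?_⟩
    rw [map_inv]
    exact Units.ext rfl

theorem detU_surjective (hF : Fintype.card F = q ^ 2) (hn : 1 ≤ n) :
    Function.Surjective (detU (n := n) hF) := by
  intro d
  let M : GL (Fin n) F := GeneralLinearGroup.mkOfDetNeZero
    (Matrix.diagonal fun i => if i = ⟨0, hn⟩ then ((d : Fˣ) : F) else 1)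
    (by rw [Matrix.det_diagonal, Finset.prod_ite_eq' Finset.univ (⟨0, hn⟩ : Fin n) fun _ => ((d : Fˣ) : F)]
        simp)
  have hM : M ∈ Cfsg.GU n F q := fun u v => by
    refine Classical.diagonal_mem_GU hF _ (fun i => ?_) u v
    split_ifs
    · rw [← Units.val_pow_eq_pow_val, mem_normOne.1 d.2, Units.val_one]
    · exact one_pow _
  refine ⟨⟨M, hM⟩, Subtype.ext (Units.ext ?_)⟩
  show (Matrix.diagonal _).det = _
  rw [Matrix.det_diagonal, Finset.prod_ite_eq' Finset.univ (⟨0, hn⟩ : Fin n) fun _ => ((d : Fˣ) : F)]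
  simp

theorem inn_le_range : Cfsg.Inn (Cfsg.PSU n F q) ≤ (conj : GUT →* AutT).range := by
  rintro _ ⟨x, rfl⟩
  obtain ⟨s, rfl⟩ := proj_surjective x
  exact ⟨_, conj_suToGU s⟩

theorem normal_comap_inn : ((Cfsg.Inn (Cfsg.PSU n F q)).comap (conj : GUT →* AutT)).Normal := by
  constructor
  rintro g ⟨x, hx⟩ h
  refine ⟨conj h x, ?_⟩
  rw [map_mul, map_mul, map_inv, ← hx]
  ext y
  simp

theorem natCard_normOne_units (hF : Fintype.card F = q ^ 2) : Nat.card ↥(normOne F q) = q + 1 := by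
  refine Eq.trans (Nat.card_congr
    { toFun := fun x => ⟨((x : Fˣ) : F), by
        rw [← Units.val_pow_eq_pow_val, mem_normOne.1 x.2, Units.val_one]⟩
      invFun := fun x => ⟨Units.mk0 x.1 (fun h => zero_ne_one (α := F) (by simpa [h] using x.2)),
        Units.ext (by simpa using x.2)⟩
      left_inv := fun x => Subtype.ext (Units.ext rfl)
      right_inv := fun x => Subtype.ext rfl }) (Classical.natCard_normOne hF)

variable (hF : Fintype.card F = q ^ 2) (hn : 3 ≤ n) {q₀ r : ℕ} (hr : Odd r) (hq : q = q₀ ^ r)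
  (σ : F ≃+* F) (hσ : orderOf σ = r)
include hF hn hr hq hσ

omit hn in
theorem card_fixed_normOne :
    Nat.card ↥((fixedUnits σ).subgroupOf (normOne F q)) = q₀ + 1 := by
  haveI : Fintype ↥(fixedField σ) := Fintype.ofFinite _
  have hK₀ : Fintype.card ↥(fixedField σ) = q₀ ^ 2 := by
    rw [← Nat.card_eq_fintype_card, card_fixed_eq hr hq hF σ hσ]
  rw [← Classical.natCard_normOne hK₀]
  have key : ∀ x : ↥(fixedField σ), x ^ (q₀ + 1) = x ^ (q + 1) := fun x => by
    rw [pow_succ, pow_succ, fixed_pow_q hr hq hF σ hσ]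
  refine Nat.card_congr
    { toFun := fun x => ⟨⟨((x.1.1 : Fˣ) : F), mem_fixedUnits.1 x.2⟩, by
        rw [key]
        refine Subtype.ext ?_
        show ((x.1.1 : Fˣ) : F) ^ (q + 1) = 1
        rw [← Units.val_pow_eq_pow_val, mem_normOne.1 x.1.2, Units.val_one]⟩
      invFun := fun y => ⟨⟨Units.mk0 (y.1 : F) (fun h => by
          have h2 := congrArg Subtype.val y.2
          push_cast [h] at h2
          rw [zero_pow (Nat.succ_ne_zero q₀)] at h2
          exact zero_ne_one h2), Units.ext (by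
            have h2 := y.2
            rw [key] at h2
            exact congrArg Subtype.val h2)⟩, mem_fixedUnits.2 y.1.2⟩
      left_inv := fun x => Subtype.ext (Subtype.ext (Units.ext rfl))
      right_inv := fun y => Subtype.ext (Subtype.ext rfl) }

theorem index_split :
    Cfsg.splitClassCount (conj : GUT →* AutT).range (Cfsg.Inn (Cfsg.PSU n F q)) (fieldAut σ)
      = Nat.gcd n ((q + 1) / (q₀ + 1)) := by
  haveI := normal_comap_inn (F := F) (n := n) (q := q)
  have hn1 : 1 ≤ n := by omega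
  rw [SplitClass.splitClassCount_range _ _ inn_le_range, comap_inn hF hn]
  set C := (Subgroup.centralizer {(fieldAut σ : AutT)}).comap (conj : GUT →* _)
  set P := (powMonoidHom n : ↥(normOne F q) →* _).range
  set H := (fixedUnits σ).subgroupOf (normOne F q)
  have hs := detU_surjective (F := F) hF hn1
  have h : P.comap (detU hF) ⊔ C = (P ⊔ H).comap (detU hF) := by
    have h1 : (detU (n := n) hF).ker ≤ P.comap (detU hF) :=
      fun g hg => by simp [Subgroup.mem_comap, MonoidHom.mem_ker.mp hg, one_mem]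
    conv_lhs => rw [← sup_eq_left.mpr (h1.trans le_sup_left : _ ≤ P.comap (detU hF) ⊔ C),
      ← Subgroup.comap_map_eq, Subgroup.map_sup, Subgroup.map_comap_eq_self_of_surjective hs]
    congr 1
    refine le_antisymm (sup_le le_sup_left ?_) (sup_le le_sup_left ?_)
    · rintro _ ⟨g, hg, rfl⟩
      obtain ⟨c, hc⟩ := (commute_field_iff hF hn σ g).mp hg
      obtain ⟨x, h, hx, hgx⟩ := exists_scalar_descent hr hq hF σ hσ hn1 g.2 c hc
      have hdet : ((detU hF g : ↥(normOne F q)) : Fˣ)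
          = x ^ n * GeneralLinearGroup.det (GeneralLinearGroup.map (fixedField σ).subtype h) := by
        rw [detU_val, hgx, map_mul, GeneralLinearGroup.det_scalar, Fintype.card_fin]
      have h2 : ((detU hF g) : ↥(normOne F q)) / (⟨x, hx⟩ ^ n) ∈ H := by
        rw [Subgroup.mem_subgroupOf, mem_fixedUnits, Subgroup.coe_div, Subgroup.coe_pow, hdet,
          mul_div_cancel_left, GeneralLinearGroup.val_det_apply]
        rw [show ((GeneralLinearGroup.map (fixedField σ).subtype h : GL (Fin n) F) :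
          Matrix (Fin n) (Fin n) F) = (h : Matrix (Fin n) (Fin n) ↥(fixedField σ)).map (fixedField σ).subtype
          from rfl]
        have := RingHom.map_det (fixedField σ).subtype (h : Matrix (Fin n) (Fin n) ↥(fixedField σ))
        rw [RingHom.mapMatrix_apply] at this
        rw [← this]
        exact ((h : Matrix (Fin n) (Fin n) ↥(fixedField σ)).det).2
      rw [← div_mul_cancel (detU hF g) (⟨x, hx⟩ ^ n : ↥(normOne F q))]
      exact mul_mem (Subgroup.mem_sup_right h2) (Subgroup.mem_sup_left ⟨⟨x, hx⟩, rfl⟩)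
    · intro d hd
      refine Subgroup.mem_sup_right ?_
      obtain ⟨g₀, hg₀⟩ := hs d
      let M : GL (Fin n) F := GeneralLinearGroup.mkOfDetNeZero
        (Matrix.diagonal fun i => if i = ⟨0, hn1⟩ then ((d : Fˣ) : F) else 1)
        (by rw [Matrix.det_diagonal,
              Finset.prod_ite_eq' Finset.univ (⟨0, hn1⟩ : Fin n) fun _ => ((d : Fˣ) : F)]
            simp)
      have hM : M ∈ Cfsg.GU n F q := fun u v => by
        refine Classical.diagonal_mem_GU hF _ (fun i => ?_) u v
        split_ifs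
        · rw [← Units.val_pow_eq_pow_val, mem_normOne.1 d.2, Units.val_one]
        · exact one_pow _
      refine ⟨⟨M, hM⟩, (commute_field_iff hF hn σ _).mpr ⟨1, ?_⟩, Subtype.ext (Units.ext ?_)⟩
      · rw [map_one, one_mul]
        refine Units.ext (Matrix.ext fun i j => ?_)
        show σ (Matrix.diagonal _ i j) = Matrix.diagonal _ i j
        rcases eq_or_ne i j with rfl | hij
        · rw [Matrix.diagonal_apply_eq]
          split_ifs
          · exact mem_fixedUnits.1 hd
          · exact map_one σ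
        · rw [Matrix.diagonal_apply_ne _ hij, map_zero]
      · show (Matrix.diagonal _).det = _
        rw [Matrix.det_diagonal,
          Finset.prod_ite_eq' Finset.univ (⟨0, hn1⟩ : Fin n) fun _ => ((d : Fˣ) : F)]
        simp
  rw [h, Subgroup.index_comap_of_surjective _ hs, SplitClass.index_powRange_sup]
  congr 1
  have h3 := Subgroup.card_mul_index H
  rw [card_fixed_normOne hF hr hq σ hσ, natCard_normOne_units hF] at h3
  rw [← h3, Nat.mul_div_cancel_left _ (Nat.succ_pos q₀)]

end Cfsg.Agent.Lib.PSUField
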